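import Groth.Agent.MiscFlat6.ClosedFibrePoint
import Groth.Agent.Sweep9Lib.FibreResDeg
import Groth.Agent.CycPushLib.Vanish
import Groth.Prelude.Def_W4c5delpairindexchiIndex

/-!
# Finite algebras mapping to a scheme have degree in the index subgroup
-/

set_option autoImplicit false
set_option linter.style.haveILetI false
universe u

open CategoryTheory AlgebraicGeometry

noncomputable section

namespace IndexMultLib

theorem residueDegree_specMap {K L : Type u} [Field K] [Field L] [Algebra K L] (z : Spec (CommRingCat.of L)) :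
    (Spec.map (CommRingCat.ofHom (algebraMap K L))).residueDegree z = Module.finrank K L := by
  let p := Spec.map (CommRingCat.ofHom (algebraMap K L))
  let ι₀ : K →+* (Spec (CommRingCat.of K)).residueField (p z) :=
    ((Scheme.ΓSpecIso (CommRingCat.of K)).inv ≫ (Spec (CommRingCat.of K)).Γevaluation (p z)).hom
  let ι₁ : L →+* (Spec (CommRingCat.of L)).residueField z :=
    ((Scheme.ΓSpecIso (CommRingCat.of L)).inv ≫ (Spec (CommRingCat.of L)).Γevaluation z).hom
  have hb₀ : Function.Bijective ι₀ := by
    refine ⟨ι₀.injective, ?_⟩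
    haveI : DiscreteTopology (Spec (CommRingCat.of K)) := inferInstanceAs (DiscreteTopology (PrimeSpectrum K))
    exact (Groth.Agent.Sweep9Lib.Γevaluation_surjective_and_ker (p z)).1.comp
      (ConcreteCategory.bijective_of_isIso (Scheme.ΓSpecIso (CommRingCat.of K)).inv).2
  have hb₁ : Function.Bijective ι₁ := by
    refine ⟨ι₁.injective, ?_⟩
    haveI : DiscreteTopology (Spec (CommRingCat.of L)) := inferInstanceAs (DiscreteTopology (PrimeSpectrum L))
    exact (Groth.Agent.Sweep9Lib.Γevaluation_surjective_and_ker z).1.comp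
      (ConcreteCategory.bijective_of_isIso (Scheme.ΓSpecIso (CommRingCat.of L)).inv).2
  unfold Scheme.Hom.residueDegree
  letI := (p.residueFieldMap z).hom.toAlgebra
  refine (Algebra.finrank_eq_of_equiv_equiv (RingEquiv.ofBijective ι₀ hb₀) (RingEquiv.ofBijective ι₁ hb₁) ?_).symm
  refine RingHom.ext fun r => ?_
  show p.residueFieldMap z (ι₀ r) = ι₁ (algebraMap K L r)
  refine (Scheme.Γevaluation_naturality_apply p z _).trans ?_
  show (Spec (CommRingCat.of L)).Γevaluation z (((Scheme.ΓSpecIso (CommRingCat.of K)).inv ≫ p.appTop) r) = _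
  rw [← Scheme.ΓSpecIso_inv_naturality]
  rfl

variable {K : Type u} [Field K] {X : Scheme.{u}} (f : X ⟶ Spec (CommRingCat.of K))

theorem finrank_field_mem {L : Type u} [Field L] [Algebra K L] [Module.Finite K L]
    (h : Spec (CommRingCat.of L) ⟶ X) (hh : h ≫ f = Spec.map (CommRingCat.ofHom (algebraMap K L))) :
    (Module.finrank K L : ℤ) ∈ Curv2.indexSubgroup f := by
  obtain ⟨z⟩ : Nonempty (Spec (CommRingCat.of L)) := inferInstanceAs (Nonempty (PrimeSpectrum L))
  have hx : IsClosed ({h z} : Set X) := by
    have h1 := MiscFlat6.isClosed_range_of_isIntegral (Field.toIsField K) (Field.toIsField L) f h _ hh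
      (fun x => Algebra.IsIntegral.isIntegral (R := K) x)
    have h2 : Set.range h = {h z} := by
      haveI : Subsingleton (Spec (CommRingCat.of L)) := inferInstanceAs (Subsingleton (PrimeSpectrum L))
      exact Set.range_eq_singleton_iff.2 fun w => congrArg h (Subsingleton.elim w z)
    rwa [h2] at h1
  have h3 : Module.finrank K L = h.residueDegree z * f.residueDegree (h z) := by
    rw [← CycPushLib.residueDegree_comp, hh, residueDegree_specMap]
  rw [h3, Nat.cast_mul, ← smul_eq_mul]
  exact (Curv2.indexSubgroup f).zsmul_mem (AddSubgroup.subset_closure ⟨h z, hx, rfl⟩) _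

theorem finrank_ideal_mem {D : Type u} [CommRing D] [Algebra K D] [Module.Finite K D]
    (g : Spec (CommRingCat.of D) ⟶ X) (hg : g ≫ f = Spec.map (CommRingCat.ofHom (algebraMap K D))) (I : Ideal D) :
    (Module.finrank K I : ℤ) ∈ Curv2.indexSubgroup f := by
  haveI : IsArtinianRing D := IsArtinianRing.of_finite K D
  induction I using IsArtinian.induction with
  | _ I ih =>
  by_cases hI : I = ⊥
  · subst hI
    rw [show Module.finrank K (⊥ : Ideal D) = 0 from Module.finrank_zero_of_subsingleton]
    exact zero_mem _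
  haveI : Nontrivial I := (Submodule.nontrivial_iff_ne_bot).2 hI
  haveI : IsNoetherianRing D := inferInstance
  obtain ⟨J, hJ⟩ := (inferInstance : IsCoatomic (Submodule D I)) |>.eq_top_or_exists_le_coatom ⊥ |>.resolve_left
    bot_ne_top
  haveI : IsSimpleModule D (I ⧸ J) := isSimpleModule_iff_isCoatom.2 hJ.1
  obtain ⟨m, hm, ⟨e⟩⟩ := isSimpleModule_iff_quot_maximal.1 ‹IsSimpleModule D (I ⧸ J)›
  haveI := hm
  letI := Ideal.Quotient.field m
  have hlt : J.map I.subtype < I := by
    have h := (Submodule.map_lt_map_iff_of_injective (f := I.subtype) Subtype.val_injective).2 hJ.1.1.lt_top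
    rwa [Submodule.map_top, Submodule.range_subtype] at h
  have h1 := ih _ hlt
  have h2 : (Module.finrank K (D ⧸ m) : ℤ) ∈ Curv2.indexSubgroup f := by
    refine finrank_field_mem f (Spec.map (CommRingCat.ofHom (Ideal.Quotient.mk m)) ≫ g) ?_
    rw [Category.assoc, hg, ← Spec.map_comp]
    rfl
  have h3 : Module.finrank K I = Module.finrank K (J.map I.subtype) + Module.finrank K (D ⧸ m) := by
    rw [← (e.restrictScalars K).finrank_eq,
      ← ((Submodule.equivMapOfInjective I.subtype Subtype.val_injective J).restrictScalars K).finrank_eq,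
      ← Submodule.finrank_quotient_add_finrank (J.restrictScalars K), add_comm]
    congr 1
  rw [h3, Nat.cast_add]
  exact add_mem h1 h2

theorem finrank_mem {D : Type u} [CommRing D] [Algebra K D] [Module.Finite K D]
    (g : Spec (CommRingCat.of D) ⟶ X) (hg : g ≫ f = Spec.map (CommRingCat.ofHom (algebraMap K D))) :
    (Module.finrank K D : ℤ) ∈ Curv2.indexSubgroup f := by
  have h := finrank_ideal_mem f g hg ⊤
  rwa [((Submodule.topEquiv (R := D) (M := D)).restrictScalars K).finrank_eq] at h

end IndexMultLib

end
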