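import Mathlib

/-!
# Lengths along a prime filtration after cutting by parameters
-/

set_option autoImplicit false
set_option linter.style.haveILetI false
universe u

open RingTheory.Sequence TensorProduct IsLocalRing
open scoped Pointwise

noncomputable section

namespace IndexMultLib

variable {L : Type u} [CommRing L]

/-- Regularity and the length of the quotient along an exact sequence. -/
theorem wreg_length : ∀ (rs : List L) {M' M M'' : Type u} [AddCommGroup M'] [Module L M'] [AddCommGroup M]
    [Module L M] [AddCommGroup M''] [Module L M''] (i : M' →ₗ[L] M) (p : M →ₗ[L] M''), Function.Injective i →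
    Function.Exact i p → Function.Surjective p → IsWeaklyRegular M' rs → IsWeaklyRegular M'' rs →
    IsWeaklyRegular M rs ∧ Module.length L (M ⧸ (Ideal.ofList rs • ⊤ : Submodule L M)) =
      Module.length L (M' ⧸ (Ideal.ofList rs • ⊤ : Submodule L M')) +
        Module.length L (M'' ⧸ (Ideal.ofList rs • ⊤ : Submodule L M''))
  | [], M', M, M'', _, _, _, _, _, _, i, p, hi, hex, hp, _, _ => by
    refine ⟨IsWeaklyRegular.nil L M, ?_⟩
    have h0 : ∀ (N : Type u) [AddCommGroup N] [Module L N],
        (Ideal.ofList ([] : List L) • ⊤ : Submodule L N) = ⊥ := fun N _ _ => by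
      rw [Ideal.ofList_nil, Submodule.bot_smul]
    rw [(Submodule.quotEquivOfEqBot _ (h0 M)).length_eq, (Submodule.quotEquivOfEqBot _ (h0 M')).length_eq,
      (Submodule.quotEquivOfEqBot _ (h0 M'')).length_eq]
    exact Module.length_eq_add_of_exact i p hi hp hex
  | r :: rs, M', M, M'', _, _, _, _, _, _, i, p, hi, hex, hp, h', h'' => by
    rw [isWeaklyRegular_cons_iff] at h' h''
    have hreg : IsSMulRegular M r := isSMulRegular_iff_right_eq_zero_of_smul.2 fun z hz => by
      have hpz : p z = 0 := h''.1.right_eq_zero_of_smul (by rw [← map_smul, hz, map_zero])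
      obtain ⟨w, rfl⟩ := (hex z).1 hpz
      have hw : r • w = 0 := hi (by rw [map_smul, hz, map_zero])
      rw [h'.1.right_eq_zero_of_smul hw, map_zero]
    have hinj : Function.Injective (QuotSMulTop.map r i) := by
      refine (injective_iff_map_eq_zero _).2 fun z hz => ?_
      obtain ⟨z, rfl⟩ := Submodule.Quotient.mk_surjective _ z
      have hz' : (Submodule.Quotient.mk (i z) : QuotSMulTop r M) = 0 := hz
      rw [Submodule.Quotient.mk_eq_zero, Submodule.mem_smul_pointwise_iff_exists] at hz'
      obtain ⟨w, -, hw⟩ := hz'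
      have hpw : p w = 0 := h''.1.right_eq_zero_of_smul (by rw [← map_smul, hw]; exact hex.apply_apply_eq_zero z)
      obtain ⟨v, rfl⟩ := (hex w).1 hpw
      rw [← map_smul] at hw
      rw [Submodule.Quotient.mk_eq_zero, ← hi hw]
      exact Submodule.smul_mem_pointwise_smul _ _ _ trivial
    obtain ⟨h1, h2⟩ := wreg_length rs (QuotSMulTop.map r i) (QuotSMulTop.map r p) hinj
      (QuotSMulTop.map_exact r hex hp) (QuotSMulTop.map_surjective r hp) h'.2 h''.2
    refine ⟨(isWeaklyRegular_cons_iff _ _ _).2 ⟨hreg, h1⟩, ?_⟩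
    rw [(Submodule.quotOfListConsSMulTopEquivQuotSMulTopInner M r rs).length_eq,
      (Submodule.quotOfListConsSMulTopEquivQuotSMulTopInner M' r rs).length_eq,
      (Submodule.quotOfListConsSMulTopEquivQuotSMulTopInner M'' r rs).length_eq, h2]

theorem wreg_of_subsingleton (M : Type u) [AddCommGroup M] [Module L M] [Subsingleton M] :
    ∀ rs : List L, IsWeaklyRegular M rs
  | [] => IsWeaklyRegular.nil L M
  | r :: rs => (isWeaklyRegular_cons_iff _ _ _).2 ⟨fun _ _ _ => Subsingleton.elim _ _, by
      haveI : Subsingleton (QuotSMulTop r M) := (Submodule.Quotient.mk_surjective _).subsingleton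
      exact wreg_of_subsingleton (QuotSMulTop r M) rs⟩

variable {A : Type u} [CommRing A]

/-- The conclusion for one module at one point. -/
def Cuts (P : Ideal A) [P.IsPrime] (q : Ideal A) [q.IsPrime] (rs : List (Localization.AtPrime q))
    (N : Type u) [AddCommGroup N] [Module A N] : Prop :=
  IsWeaklyRegular (Localization.AtPrime q ⊗[A] N) rs ∧
    Module.length (Localization.AtPrime q) ((Localization.AtPrime q ⊗[A] N) ⧸
      (Ideal.ofList rs • ⊤ : Submodule (Localization.AtPrime q) (Localization.AtPrime q ⊗[A] N))) =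
    Module.length (Localization.AtPrime P) (Localization.AtPrime P ⊗[A] N)

/-- The hypothesis on the parameters at a point. -/
def IsParams (P : Ideal A) (q : Ideal A) [q.IsPrime] (rs : List (Localization.AtPrime q)) : Prop :=
  IsWeaklyRegular (Localization.AtPrime q ⊗[A] (A ⧸ P)) rs ∧
    Module.length (Localization.AtPrime q) ((Localization.AtPrime q ⊗[A] (A ⧸ P)) ⧸
      (Ideal.ofList rs • ⊤ : Submodule (Localization.AtPrime q) (Localization.AtPrime q ⊗[A] (A ⧸ P)))) = 1

theorem subsingleton_tensor {L : Type u} [CommRing L] [Algebra A L] {N : Type u} [AddCommGroup N] [Module A N]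
    (f : A) (hf : IsUnit (algebraMap A L f)) (h : ∀ x : N, f • x = 0) : Subsingleton (L ⊗[A] N) := by
  refine subsingleton_of_forall_eq 0 fun z => ?_
  induction z using TensorProduct.induction_on with
  | zero => rfl
  | add a b ha hb => rw [ha, hb, add_zero]
  | tmul l x =>
    obtain ⟨u, hu⟩ := hf
    have : l = f • ((↑u⁻¹ : L) * l) := by rw [Algebra.smul_def, ← hu, ← mul_assoc, Units.mul_inv, one_mul]
    rw [this, TensorProduct.smul_tmul, h, TensorProduct.tmul_zero]

theorem length_residue (P : Ideal A) [P.IsPrime] :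
    Module.length (Localization.AtPrime P) (Localization.AtPrime P ⊗[A] (A ⧸ P)) = 1 := by
  rw [← (Algebra.TensorProduct.quotIdealMapEquivTensorQuot (Localization.AtPrime P) P).toLinearEquiv.length_eq,
    Module.length_eq_one_iff, isSimpleModule_iff_isCoatom, IsLocalization.AtPrime.map_eq_maximalIdeal P,
    ← Ideal.isMaximal_def]
  exact IsLocalRing.maximalIdeal.isMaximal _

theorem exists_cuts [IsNoetherianRing A] (π : A) (P : Ideal A) [P.IsPrime]
    (hmin : ∀ p : Ideal A, p.IsPrime → π ∈ p → p ≤ P → p = P) (M : Type u) [AddCommGroup M] [Module A M]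
    [hM : Module.Finite A M] : (∀ x : M, π • x = 0) → ∃ f : A, f ∉ P ∧ ∀ (q : Ideal A) [q.IsPrime], f ∉ q →
      ∀ rs : List (Localization.AtPrime q), IsParams P q rs → Cuts P q rs M := by
  refine IsNoetherianRing.induction_on_isQuotientEquivQuotientPrime A hM
    (motive := fun N _ _ _ => (∀ x : N, π • x = 0) → ∃ f : A, f ∉ P ∧ ∀ (q : Ideal A) [q.IsPrime], f ∉ q →
      ∀ rs : List (Localization.AtPrime q), IsParams P q rs → Cuts P q rs N) ?_ ?_ ?_
  · intro N _ _ _ _ _
    refine ⟨1, fun h => ‹P.IsPrime›.ne_top ((Ideal.eq_top_iff_one P).2 h), fun q _ _ rs _ => ?_⟩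
    haveI : Subsingleton (Localization.AtPrime q ⊗[A] N) :=
      subsingleton_tensor 1 (by simp) fun x => Subsingleton.elim _ _
    haveI : Subsingleton (Localization.AtPrime P ⊗[A] N) :=
      subsingleton_tensor 1 (by simp) fun x => Subsingleton.elim _ _
    exact ⟨wreg_of_subsingleton _ rs, by rw [Module.length_eq_zero, Module.length_eq_zero]⟩
  · intro N _ _ _ p e hN
    have hπ : π ∈ p.1 := by
      have h := congrArg e (hN (e.symm (Ideal.Quotient.mk p.1 1)))
      rw [map_smul, LinearEquiv.apply_symm_apply, map_zero] at h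
      rw [← Ideal.Quotient.eq_zero_iff_mem, ← h, Algebra.smul_def, map_one, mul_one]
      rfl
    by_cases hp : p.1 = P
    · refine ⟨1, fun h => ‹P.IsPrime›.ne_top ((Ideal.eq_top_iff_one P).2 h), fun q _ _ rs hrs => ?_⟩
      let e' : N ≃ₗ[A] A ⧸ P := e ≪≫ₗ Submodule.quotEquivOfEq _ _ hp
      let eq := e'.baseChange A (Localization.AtPrime q) N (A ⧸ P)
      refine ⟨(eq.isWeaklyRegular_congr rs).2 hrs.1, ?_⟩
      rw [(Submodule.Quotient.equiv (Ideal.ofList rs • ⊤) (Ideal.ofList rs • ⊤) eq (by rw [Submodule.map_smul'', Submodule.map_top, LinearEquiv.range])).length_eq,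
        hrs.2, (e'.baseChange A (Localization.AtPrime P) N (A ⧸ P)).length_eq, length_residue]
    · obtain ⟨f, hfp, hfP⟩ : ∃ f, f ∈ p.1 ∧ f ∉ P := by
        by_contra! h
        exact hp (hmin p.1 p.2 hπ h)
      have hk : ∀ x : N, f • x = 0 := fun x => e.injective (by
        obtain ⟨a, ha⟩ := Ideal.Quotient.mk_surjective (e x)
        rw [map_smul, map_zero, ← ha, Algebra.smul_def, Ideal.Quotient.algebraMap_eq, ← map_mul,
          Ideal.Quotient.eq_zero_iff_mem]
        exact p.1.mul_mem_right _ hfp)
      refine ⟨f, hfP, fun q _ hfq rs _ => ?_⟩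
      haveI : Subsingleton (Localization.AtPrime q ⊗[A] N) :=
        subsingleton_tensor f (IsLocalization.map_units _ (⟨f, hfq⟩ : q.primeCompl)) hk
      haveI : Subsingleton (Localization.AtPrime P ⊗[A] N) :=
        subsingleton_tensor f (IsLocalization.map_units _ (⟨f, hfP⟩ : P.primeCompl)) hk
      exact ⟨wreg_of_subsingleton _ rs, by rw [Module.length_eq_zero, Module.length_eq_zero]⟩
  · intro N₁ _ _ _ N₂ _ _ _ N₃ _ _ _ g h hg hh hex i₁ i₃ h2
    obtain ⟨f₁, hf₁, H₁⟩ := i₁ fun x => hg (by rw [map_smul, h2, map_zero])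
    obtain ⟨f₃, hf₃, H₃⟩ := i₃ fun x => by
      obtain ⟨y, rfl⟩ := hh x
      rw [← map_smul, h2, map_zero]
    refine ⟨f₁ * f₃, fun hm => (‹P.IsPrime›.mem_or_mem hm).elim hf₁ hf₃, fun q _ hfq rs hrs => ?_⟩
    obtain ⟨a1, a2⟩ := H₁ q (fun hm => hfq (q.mul_mem_right _ hm)) rs hrs
    obtain ⟨b1, b2⟩ := H₃ q (fun hm => hfq (q.mul_mem_left _ hm)) rs hrs
    obtain ⟨c1, c2⟩ := wreg_length rs (g.baseChange (Localization.AtPrime q)) (h.baseChange (Localization.AtPrime q))
      (Module.Flat.lTensor_preserves_injective_linearMap g hg) (lTensor_exact _ hex hh)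
      (LinearMap.lTensor_surjective _ hh) a1 b1
    refine ⟨c1, ?_⟩
    rw [c2, a2, b2]
    exact (Module.length_eq_add_of_exact (g.baseChange (Localization.AtPrime P)) (h.baseChange (Localization.AtPrime P))
      (Module.Flat.lTensor_preserves_injective_linearMap g hg) (LinearMap.lTensor_surjective _ hh)
      (lTensor_exact _ hex hh)).symm

end IndexMultLib

end
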