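import Groth.Agent.IndexMultLib.Filt
import Groth.Agent.TransLib.GeomFlat
import Groth.Agent.S1561
import Groth.Agent.S5035

/-!
# A finite flat slice of rank equal to the multiplicity
-/

set_option autoImplicit false
set_option linter.style.haveILetI false
set_option maxHeartbeats 2000000
universe u

open RingTheory.Sequence TensorProduct IsLocalRing CategoryTheory AlgebraicGeometry
open scoped Pointwise

noncomputable section

namespace IndexMultLib

/-- Localisation commutes with quotients. -/
theorem loc_quot {A : Type u} [CommRing A] (I : Ideal A) (q : Ideal A) [q.IsPrime] (q' : Ideal (A ⧸ I)) [q'.IsPrime]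
    (hq : q = q'.comap (Ideal.Quotient.mk I)) :
    ∃ φ : Localization.AtPrime q →ₐ[A] Localization.AtPrime q',
      Function.Surjective φ ∧ RingHom.ker φ = I.map (algebraMap A (Localization.AtPrime q)) := by
  let φ : Localization.AtPrime q →ₐ[A] Localization.AtPrime q' :=
    Localization.localAlgHom q q' (Ideal.Quotient.mkₐ A I) hq
  refine ⟨φ, (RingHom.surjectiveOnStalks_of_surjective
      Ideal.Quotient.mk_surjective).localRingHom_surjective _ _ hq, ?_⟩
  ext x
  obtain ⟨a, ⟨s, hs⟩, rfl⟩ := IsLocalization.exists_mk'_eq q.primeCompl x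
  have e : φ (IsLocalization.mk' (Localization.AtPrime q) a (⟨s, hs⟩ : q.primeCompl)) =
      IsLocalization.mk' (Localization.AtPrime q') (Ideal.Quotient.mk I a)
        (⟨Ideal.Quotient.mk I s, fun h => hs (hq.ge h)⟩ : q'.primeCompl) :=
    Localization.localRingHom_mk' q q' _ hq a _
  rw [RingHom.mem_ker, e, IsLocalization.mk'_mem_map_algebraMap_iff q.primeCompl, IsLocalization.mk'_eq_zero_iff]
  constructor
  · rintro ⟨⟨c, hc⟩, h⟩
    obtain ⟨c, rfl⟩ := Ideal.Quotient.mk_surjective c
    exact ⟨c, fun h' => hc (hq.le h'), Ideal.Quotient.eq_zero_iff_mem.1 ((map_mul _ _ _).trans h)⟩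
  · rintro ⟨c, hc, h⟩
    refine ⟨⟨Ideal.Quotient.mk I c, fun h' => hc (hq.ge h')⟩, ?_⟩
    show Ideal.Quotient.mk I c * Ideal.Quotient.mk I a = 0
    rw [← map_mul, Ideal.Quotient.eq_zero_iff_mem]
    exact h

/-- The slice ring of a component has finite length. -/
theorem length_ne_top {A : Type u} [CommRing A] [IsNoetherianRing A] (π : A) (P : Ideal A) [P.IsPrime]
    (hmin : ∀ p : Ideal A, p.IsPrime → π ∈ p → p ≤ P → p = P) :
    Module.length (Localization.AtPrime P) (Localization.AtPrime P ⊗[A] (A ⧸ Ideal.span {π})) ≠ ⊤ := by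
  let T := Localization.AtPrime P
  let J := (Ideal.span {π}).map (algebraMap A T)
  rw [← (Algebra.TensorProduct.quotIdealMapEquivTensorQuot T (Ideal.span {π})).toLinearEquiv.length_eq,
    Module.length_ne_top_iff, isFiniteLength_iff_isNoetherian_isArtinian]
  refine ⟨inferInstance, ?_⟩
  haveI : IsArtinianRing (T ⧸ J) := by
    rw [isArtinianRing_iff_isNoetherianRing_krullDimLE_zero]
    refine ⟨inferInstance, Ring.krullDimLE_zero_iff.2 fun Q hQ => ?_⟩
    have hcm : Q.comap (Ideal.Quotient.mk J) = maximalIdeal T := by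
      haveI := Ideal.comap_isPrime (Ideal.Quotient.mk J) Q
      have hmem : π ∈ (Q.comap (Ideal.Quotient.mk J)).comap (algebraMap A T) := by
        show Ideal.Quotient.mk J (algebraMap A T π) ∈ Q
        rw [Ideal.Quotient.eq_zero_iff_mem.2 (Ideal.mem_map_of_mem _ (Ideal.mem_span_singleton_self π))]
        exact Q.zero_mem
      have hle : (Q.comap (Ideal.Quotient.mk J)).comap (algebraMap A T) ≤ P := fun a ha =>
        (IsLocalization.AtPrime.to_map_mem_maximal_iff T P a).1
          ((IsLocalRing.le_maximalIdeal (Ideal.comap_isPrime (Ideal.Quotient.mk J) Q).ne_top) ha)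
      have h := hmin _ (Ideal.comap_isPrime _ _) hmem hle
      rw [← IsLocalization.map_comap P.primeCompl T (Q.comap (Ideal.Quotient.mk J)), Ideal.under, h]
      exact IsLocalization.AtPrime.map_eq_maximalIdeal P T
    have := Ideal.map_comap_of_surjective (Ideal.Quotient.mk J) Ideal.Quotient.mk_surjective Q
    rw [← this]
    refine (Ideal.map_eq_top_or_isMaximal_of_surjective _ Ideal.Quotient.mk_surjective
      (hcm ▸ maximalIdeal.isMaximal T)).resolve_left ?_
    rw [this]
    exact hQ.ne_top
  exact isArtinian_of_surjective_algebraMap (M := T ⧸ J)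
    (Ideal.Quotient.mk_surjective : Function.Surjective (algebraMap T (T ⧸ J)))

/-- A general regular rational point of a component of the closed fibre. -/
theorem exists_point {R : Type u} [CommRing R] [IsLocalRing R] [IsAlgClosed (ResidueField R)] {A : Type u}
    [CommRing A] [Algebra R A] [Algebra.FiniteType R A] (P : Ideal A) [P.IsPrime]
    (hP : P.under R = maximalIdeal R) (f : A) (hf : f ∉ P) :
    ∃ (q : Ideal A) (_ : q.IsMaximal) (q' : Ideal (A ⧸ P)) (_ : q'.IsPrime), f ∉ q ∧
      q = q'.comap (Ideal.Quotient.mk P) ∧ IsRegularLocalRing (Localization.AtPrime q') ∧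
      q.under R = maximalIdeal R ∧ Function.Surjective ((Ideal.Quotient.mk q).comp (algebraMap R A)) := by
  let k := ResidueField R
  have hle : maximalIdeal R ≤ RingHom.ker ((Ideal.Quotient.mk P).comp (algebraMap R A)) := fun r hr => by
    rw [RingHom.mem_ker, RingHom.comp_apply, Ideal.Quotient.eq_zero_iff_mem]
    exact hP.ge hr
  letI : Algebra k (A ⧸ P) :=
    (Ideal.Quotient.lift (maximalIdeal R) ((Ideal.Quotient.mk P).comp (algebraMap R A)) hle).toAlgebra
  haveI : IsScalarTower R k (A ⧸ P) := IsScalarTower.of_algebraMap_eq fun r => rfl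
  haveI : Algebra.FiniteType k (A ⧸ P) := Algebra.FiniteType.of_restrictScalars_finiteType R _ _
  let B := A ⧸ P
  let X := Spec (CommRingCat.of B)
  letI : X.Over (Spec (CommRingCat.of k)) := ⟨Spec.map (CommRingCat.ofHom (algebraMap k B))⟩
  haveI : LocallyOfFiniteType (X ↘ Spec (CommRingCat.of k)) := by
    show LocallyOfFiniteType (Spec.map _)
    rw [HasRingHomProperty.Spec_iff (P := @LocallyOfFiniteType)]
    exact RingHom.finiteType_algebraMap.2 inferInstance
  haveI : IsLocallyNoetherian (Spec (CommRingCat.of k)) := inferInstance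
  haveI : LocallyOfFinitePresentation (X ↘ Spec (CommRingCat.of k)) :=
    LocallyOfFinitePresentation.iff_locallyOfFiniteType.2 inferInstance
  obtain ⟨hsm, hdense⟩ := Groth.Agent.S1561.result k X
  let fb : B := Ideal.Quotient.mk P f
  have hne : ((PrimeSpectrum.basicOpen fb : Set (PrimeSpectrum B))).Nonempty :=
    ⟨⟨⊥, Ideal.isPrime_bot⟩, fun h => hf (Ideal.Quotient.eq_zero_iff_mem.1 h)⟩
  obtain ⟨x₀, hx₀, hx₀'⟩ := hdense.inter_open_nonempty (U := (PrimeSpectrum.basicOpen fb : Set (PrimeSpectrum B)))
    (PrimeSpectrum.basicOpen fb).isOpen hne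
  haveI : IsJacobsonRing B := isJacobsonRing_of_finiteType (A := k)
  haveI hJ : JacobsonSpace ↥(Spec (CommRingCat.of B)) := by
    show JacobsonSpace (PrimeSpectrum B)
    infer_instance
  obtain ⟨x, ⟨hx, hx'⟩, hxc⟩ := @nonempty_inter_closedPoints X _ hJ
    (Z := ((PrimeSpectrum.basicOpen fb : Set (PrimeSpectrum B)) : Set X) ∩ (X ↘ Spec (CommRingCat.of k)).smoothLocus) ⟨x₀, hx₀, hx₀'⟩
    (IsOpen.isLocallyClosed ((PrimeSpectrum.basicOpen fb).isOpen.inter
      (X ↘ Spec (CommRingCat.of k)).smoothLocus.isOpen))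
  let q' : Ideal B := (x : PrimeSpectrum B).asIdeal
  haveI hq'p : q'.IsPrime := (x : PrimeSpectrum B).isPrime
  have hmax : q'.IsMaximal := (PrimeSpectrum.isClosed_singleton_iff_isMaximal x).1 hxc
  haveI := hmax
  have hqm : (q'.comap (Ideal.Quotient.mk P)).IsMaximal :=
    Ideal.comap_isMaximal_of_surjective _ Ideal.Quotient.mk_surjective
  refine ⟨q'.comap (Ideal.Quotient.mk P), hqm, q', hq'p, hx, rfl, ?_, ?_, ?_⟩
  · haveI := (hsm x).1 hx'
    exact IsRegularLocalRing.of_ringEquiv (Spec.stalkIso (CommRingCat.of B) x).commRingCatIsoToRingEquiv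
  · refine ((maximalIdeal.isMaximal R).eq_of_le (Ideal.comap_isPrime _ _).ne_top ?_).symm
    intro r hr
    show Ideal.Quotient.mk P (algebraMap R A r) ∈ q'
    rw [show Ideal.Quotient.mk P (algebraMap R A r) = 0 from hle hr]
    exact q'.zero_mem
  · letI := Ideal.Quotient.field q'
    haveI : Module.Finite k (B ⧸ q') := finite_of_finite_type_of_isJacobsonRing k (B ⧸ q')
    intro z
    obtain ⟨a, rfl⟩ := Ideal.Quotient.mk_surjective z
    obtain ⟨c, hc⟩ := (IsAlgClosed.algebraMap_bijective_of_isIntegral (k := k) (K := B ⧸ q')).2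
      (Ideal.Quotient.mk q' (Ideal.Quotient.mk P a))
    obtain ⟨r, rfl⟩ := IsLocalRing.residue_surjective c
    refine ⟨r, Ideal.Quotient.eq.2 ?_⟩
    show Ideal.Quotient.mk P (algebraMap R A r - a) ∈ q'
    rw [map_sub]
    exact Ideal.Quotient.eq.1 hc

/-- The slice. -/
theorem exists_slice {R : Type u} [CommRing R] [IsDomain R] [IsDiscreteValuationRing R] [HenselianLocalRing R]
    [IsAlgClosed (ResidueField R)] {A : Type u} [CommRing A] [Algebra R A] [Algebra.FiniteType R A]
    [Module.Flat R A] {ϖ : R} (hϖ : Irreducible ϖ) (P : Ideal A) [P.IsPrime] (hπ : algebraMap R A ϖ ∈ P)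
    (hmin : ∀ p : Ideal A, p.IsPrime → algebraMap R A ϖ ∈ p → p ≤ P → p = P) :
    ∃ (C : Type u) (_ : CommRing C) (_ : Algebra R C) (_ : A →ₐ[R] C), Module.Finite R C ∧ Module.Free R C ∧
      (Module.finrank R C : ℕ∞) = Module.length (Localization.AtPrime P)
        (Localization.AtPrime P ⊗[A] (A ⧸ Ideal.span {algebraMap R A ϖ})) := by
  haveI : IsNoetherianRing A := Algebra.FiniteType.isNoetherianRing R A
  let π := algebraMap R A ϖ
  have hm : maximalIdeal R = Ideal.span {ϖ} := hϖ.maximalIdeal_eq
  have hP : P.under R = maximalIdeal R :=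
    ((maximalIdeal.isMaximal R).eq_of_le (Ideal.comap_isPrime _ _).ne_top (by
      rw [hm, Ideal.span_singleton_le_iff_mem]; exact hπ)).symm
  obtain ⟨f, hf, hcuts⟩ := exists_cuts π P hmin (A ⧸ Ideal.span {π}) fun x => by
    obtain ⟨a, rfl⟩ := Ideal.Quotient.mk_surjective x
    rw [Algebra.smul_def, Ideal.Quotient.algebraMap_eq, ← map_mul, Ideal.Quotient.eq_zero_iff_mem]
    exact Ideal.mul_mem_right _ _ (Ideal.mem_span_singleton_self π)
  obtain ⟨q, hqmax, q', hq'p, hfq, hqq', hreg, hqR, hres⟩ := exists_point P hP f hf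
  haveI := hreg
  let L := Localization.AtPrime q
  obtain ⟨φ, hφs, hφk⟩ := loc_quot P q q' hqq'
  -- parameters
  obtain ⟨s, hs, hsp⟩ := (IsNoetherian.noetherian (maximalIdeal (Localization.AtPrime q'))).exists_span_finset_card_eq_spanFinrank
  let d := s.card
  let y : Fin d → Localization.AtPrime q' := fun i => (s.equivFin.symm i).1
  have hy : Ideal.span (Set.range y) = maximalIdeal (Localization.AtPrime q') := by
    refine Eq.trans ?_ hsp
    congr 1
    ext z
    refine ⟨?_, fun hz => ⟨s.equivFin ⟨z, hz⟩, by simp [y]⟩⟩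
    rintro ⟨i, rfl⟩
    exact (s.equivFin.symm i).2
  have hd : ringKrullDim (Localization.AtPrime q') = d := by
    rw [← IsRegularLocalRing.spanFinrank_maximalIdeal, ← hs]
  choose z hz using fun i => hφs (y i)
  choose a b hab using fun i => IsLocalization.exists_mk'_eq q.primeCompl (z i)
  let x : Fin d → L := fun i => algebraMap A L (a i)
  have hxy : Ideal.span (Set.range fun i => φ (x i)) = maximalIdeal (Localization.AtPrime q') := by
    rw [← hy]
    refine le_antisymm (Ideal.span_le.2 ?_) (Ideal.span_le.2 ?_)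
    · rintro _ ⟨i, rfl⟩
      have e : φ (x i) = y i * φ (algebraMap A L (b i)) := by
        rw [← hz i, ← map_mul, ← hab i, IsLocalization.mk'_spec]
      simp only [SetLike.mem_coe, e]
      exact Ideal.mul_mem_right _ _ (Ideal.subset_span ⟨i, rfl⟩)
    · rintro _ ⟨i, rfl⟩
      obtain ⟨u, hu⟩ := ((IsLocalization.map_units L (b i)).map φ)
      have e : y i = φ (x i) * ↑u⁻¹ := by
        rw [Units.eq_mul_inv_iff_mul_eq, hu, ← hz i, ← map_mul, ← hab i, IsLocalization.mk'_spec]
      rw [SetLike.mem_coe, e]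
      exact Ideal.mul_mem_right _ _ (Ideal.subset_span ⟨i, rfl⟩)
  have hxm : ∀ i, x i ∈ maximalIdeal L := fun i => by
    have h : φ (x i) ∈ maximalIdeal (Localization.AtPrime q') := hxy.le (Ideal.subset_span ⟨i, rfl⟩)
    exact fun hu => h (hu.map φ)
  let rs := List.ofFn x
  have hofl : ∀ {S : Type u} [CommRing S] (g : Fin d → S), Ideal.ofList (List.ofFn g) = Ideal.span (Set.range g) :=
    fun g => by rw [Ideal.ofList]; congr 1; ext r; exact List.mem_ofFn
  -- the parameters on the reduced component
  let e₀ : (L ⊗[A] (A ⧸ P)) ≃ₗ[L] L ⧸ RingHom.ker φ :=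
    (Algebra.TensorProduct.quotIdealMapEquivTensorQuot L P).toLinearEquiv.symm ≪≫ₗ
      Submodule.quotEquivOfEq _ _ hφk.symm
  letI : Algebra L (Localization.AtPrime q') := φ.toRingHom.toAlgebra
  let e₁ : (L ⧸ RingHom.ker φ) ≃ₗ[L] Localization.AtPrime q' :=
    (Ideal.quotientKerAlgEquivOfSurjective (f := Algebra.ofId L (Localization.AtPrime q')) hφs).toLinearEquiv
  let E := e₀ ≪≫ₗ e₁
  have hparams : IsParams P q rs := by
    have hmap : rs.map (algebraMap L (Localization.AtPrime q')) = List.ofFn fun i => φ (x i) := by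
      rw [List.map_ofFn]; rfl
    refine ⟨(E.isWeaklyRegular_congr rs).2 ?_, ?_⟩
    · rw [← isWeaklyRegular_map_algebraMap_iff (S := Localization.AtPrime q'), hmap]
      exact TransLib.isWeaklyRegular_of_params hd _ hxy
    · rw [(Submodule.Quotient.equiv (Ideal.ofList rs • ⊤) (Ideal.ofList rs • ⊤) E (by
        rw [Submodule.map_smul'', Submodule.map_top, LinearEquiv.range])).length_eq]
      rw [(Submodule.quotEquivOfEq (Ideal.ofList rs • ⊤ : Submodule L (Localization.AtPrime q'))
        ((maximalIdeal (Localization.AtPrime q')).restrictScalars L) (by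
          rw [Ideal.smul_top_eq_map, Ideal.map_ofList, hmap, hofl, hxy])).length_eq]
      refine (Module.length_eq_of_surjective (R := Localization.AtPrime q') (S := L) (M := Localization.AtPrime q' ⧸
        maximalIdeal (Localization.AtPrime q')) (show Function.Surjective (algebraMap L _) from hφs)).trans ?_
      exact Module.length_eq_one_iff.2 (isSimpleModule_iff_isCoatom.2 (maximalIdeal.isMaximal _).out)
  obtain ⟨hreg₁, hlen⟩ := hcuts q hfq rs hparams
  -- move to the local ring
  let πL := algebraMap A L π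
  let G : (L ⊗[A] (A ⧸ Ideal.span {π})) ≃ₗ[L] L ⧸ Ideal.span {πL} :=
    (Algebra.TensorProduct.quotIdealMapEquivTensorQuot L (Ideal.span {π})).toLinearEquiv.symm ≪≫ₗ
      Submodule.quotEquivOfEq _ _ (by rw [Ideal.map_span, Set.image_singleton])
  rw [G.isWeaklyRegular_congr] at hreg₁
  haveI : Module.Flat R L := Module.Flat.trans R A L
  have hπreg : IsSMulRegular L πL := by
    intro u w h
    refine (Module.Flat.isSMulRegular_of_nonZeroDivisors (M := L) (mem_nonZeroDivisors_of_ne_zero hϖ.ne_zero)) ?_
    show ϖ • u = ϖ • w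
    simpa [Algebra.smul_def, πL, π, ← IsScalarTower.algebraMap_apply] using h
  have hall : IsWeaklyRegular L (πL :: rs) := by
    refine (isWeaklyRegular_cons_iff _ _ _).2 ⟨hπreg, ?_⟩
    refine ((Submodule.quotEquivOfEq _ _ ?_).isWeaklyRegular_congr rs).2 hreg₁
    rw [← Submodule.ideal_span_singleton_smul, smul_eq_mul, Ideal.mul_top]
  have hπm : πL ∈ maximalIdeal L := by
    rw [← IsLocalization.AtPrime.map_eq_maximalIdeal q]
    refine Ideal.mem_map_of_mem _ ?_
    show ϖ ∈ q.under R
    rw [hqR, hm]
    exact Ideal.mem_span_singleton_self ϖ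
  have hperm : IsWeaklyRegular L (rs ++ [πL]) := IsLocalRing.isWeaklyRegular_of_perm_of_subset_maximalIdeal hall
    (List.perm_append_singleton πL rs).symm fun r hr => by
      rcases List.mem_cons.1 hr with rfl | hr
      · exact hπm
      · obtain ⟨i, rfl⟩ := List.mem_ofFn.1 hr
        exact hxm i
  -- the slice
  let I : Ideal A := Ideal.span (Set.range a)
  have hIq : I ≤ q := Ideal.span_le.2 (by
    rintro _ ⟨i, rfl⟩
    by_contra hn
    exact hxm i (IsLocalization.map_units L (⟨a i, hn⟩ : q.primeCompl)))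
  have hqS : q = (q.map (Ideal.Quotient.mk I)).comap (Ideal.Quotient.mk I) := by
    rw [Ideal.comap_map_of_surjective _ Ideal.Quotient.mk_surjective, ← RingHom.ker_eq_comap_bot, Ideal.mk_ker,
      sup_eq_left.2 hIq]
  haveI : (q.map (Ideal.Quotient.mk I)).IsPrime := Ideal.map_isPrime_of_surjective Ideal.Quotient.mk_surjective
    (by rw [Ideal.mk_ker]; exact hIq)
  let qS := q.map (Ideal.Quotient.mk I)
  obtain ⟨ψ, hψs, hψk⟩ := loc_quot I q qS hqS
  let C := Localization.AtPrime qS
  have hψk' : RingHom.ker ψ = Ideal.ofList rs := by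
    rw [hψk, hofl, Ideal.map_span, ← Set.range_comp]
    rfl
  letI : Algebra L C := ψ.toRingHom.toAlgebra
  haveI : IsScalarTower R L C := IsScalarTower.of_algebraMap_eq fun r => by
    show _ = ψ (algebraMap R L r)
    rw [IsScalarTower.algebraMap_apply R A L, ψ.commutes, ← IsScalarTower.algebraMap_apply R A C]
  let eC : (L ⧸ (Ideal.ofList rs • ⊤ : Submodule L L)) ≃ₗ[L] C :=
    Submodule.quotEquivOfEq _ _ (by rw [smul_eq_mul, Ideal.mul_top]; exact hψk'.symm) ≪≫ₗ
      (Ideal.quotientKerAlgEquivOfSurjective (f := Algebra.ofId L C) hψs).toLinearEquiv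
  have hCπ : IsSMulRegular C ϖ := by
    have h := ((isWeaklyRegular_append_iff _ _ _).1 hperm).2
    rw [isWeaklyRegular_singleton_iff] at h
    intro u w huw
    obtain ⟨u, rfl⟩ := eC.surjective u
    obtain ⟨w, rfl⟩ := eC.surjective w
    refine congrArg eC (h ?_)
    refine eC.injective ?_
    have e : ∀ c : C, ϖ • c = πL • c := fun c => by
      rw [Algebra.smul_def, Algebra.smul_def, IsScalarTower.algebraMap_apply R L C]
      simp [πL, π, ← IsScalarTower.algebraMap_apply]
    simpa [map_smul, e] using huw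
  -- its closed fibre
  let N := C ⧸ (Ideal.span {ϖ} • ⊤ : Submodule R C)
  have hlenC : Module.length L (C ⧸ (Ideal.span {πL} • ⊤ : Submodule L C)) =
      Module.length (Localization.AtPrime P) (Localization.AtPrime P ⊗[A] (A ⧸ Ideal.span {π})) := by
    rw [← hlen, (Submodule.Quotient.equiv (Ideal.ofList rs • ⊤) (Ideal.ofList rs • ⊤) G (by
        rw [Submodule.map_smul'', Submodule.map_top, LinearEquiv.range])).length_eq]
    rw [← (Submodule.Quotient.equiv (Ideal.span {πL} • ⊤) (Ideal.span {πL} • ⊤) eC (by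
        rw [Submodule.map_smul'', Submodule.map_top, LinearEquiv.range])).length_eq]
    refine LinearEquiv.length_eq ?_
    refine ?_ ≪≫ₗ (Submodule.quotOfListConsSMulTopEquivQuotSMulTopInner L πL rs) ≪≫ₗ
      Submodule.Quotient.equiv (Ideal.ofList rs • ⊤) (Ideal.ofList rs • ⊤)
        (Submodule.quotEquivOfEq (πL • (⊤ : Submodule L L)) (Ideal.span {πL}) (by
          rw [← Submodule.ideal_span_singleton_smul, smul_eq_mul, Ideal.mul_top]))
        (by rw [Submodule.map_smul'', Submodule.map_top, LinearEquiv.range])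
    exact (Submodule.quotEquivOfEq _ _ (Submodule.ideal_span_singleton_smul _ _)) ≪≫ₗ
      (Submodule.quotOfListConsSMulTopEquivQuotSMulTopOuter L πL rs).symm
  -- lengths over the base
  haveI : IsLocalHom (algebraMap R C) := ⟨fun r hr => by
    by_contra hn
    have h : algebraMap R A r ∈ q := hqR.ge hn
    rw [IsScalarTower.algebraMap_apply R L C, IsScalarTower.algebraMap_apply R A L] at hr
    haveI : IsLocalHom (algebraMap L C) := .of_surjective _ hψs
    exact (IsLocalization.AtPrime.to_map_mem_maximal_iff L q _).2 h (isUnit_of_map_unit (algebraMap L C) _ hr)⟩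
  have hLsurj : Function.Surjective ((residue L).comp (algebraMap R L)) := fun c => by
    obtain ⟨l, rfl⟩ := IsLocalRing.residue_surjective c
    obtain ⟨a, ⟨b, hb⟩, rfl⟩ := IsLocalization.exists_mk'_eq q.primeCompl l
    obtain ⟨ra, hra⟩ := hres (Ideal.Quotient.mk q a)
    obtain ⟨rb, hrb⟩ := hres (Ideal.Quotient.mk q b)
    have key : ∀ (r : R) (w : A), Ideal.Quotient.mk q (algebraMap R A r) = Ideal.Quotient.mk q w →
        residue L (algebraMap R L r) = residue L (algebraMap A L w) := fun r w h => by
      rw [IsScalarTower.algebraMap_apply R A L]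
      refine Ideal.Quotient.eq.2 ?_
      rw [← map_sub]
      exact (IsLocalization.AtPrime.to_map_mem_maximal_iff L q _).2 (Ideal.Quotient.eq.1 h)
    have hu : IsUnit rb := by
      by_contra hn
      have h1 : algebraMap R A rb ∈ q := hqR.ge hn
      have h2 : algebraMap R A rb - b ∈ q := Ideal.Quotient.eq.1 hrb
      exact hb ((q.sub_mem_iff_right h1).1 h2)
    refine ⟨ra * ↑hu.unit⁻¹, ?_⟩
    show residue L (algebraMap R L (ra * ↑hu.unit⁻¹)) = _
    have e1 := congrArg (residue L) (IsLocalization.mk'_spec L a (⟨b, hb⟩ : q.primeCompl))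
    rw [map_mul] at e1
    have hb' : residue L (algebraMap A L b) ≠ 0 := fun h => hb
      ((IsLocalization.AtPrime.to_map_mem_maximal_iff L q b).1 (Ideal.Quotient.eq_zero_iff_mem.1 h))
    refine mul_right_cancel₀ hb' ?_
    rw [e1, ← key ra a hra, ← key rb b hrb, ← map_mul, ← map_mul, mul_assoc, IsUnit.val_inv_mul, mul_one]
  have hone : Module.length (ResidueField R) (ResidueField C) = 1 := by
    have hs : Function.Surjective (algebraMap (ResidueField R) (ResidueField C)) := by
      intro c
      obtain ⟨c, rfl⟩ := IsLocalRing.residue_surjective c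
      obtain ⟨l, rfl⟩ := hψs c
      obtain ⟨r, hr⟩ := hLsurj (residue L l)
      refine ⟨residue R r, ?_⟩
      show residue C (algebraMap R C r) = residue C (ψ l)
      haveI : IsLocalHom (algebraMap L C) := .of_surjective _ hψs
      rw [IsScalarTower.algebraMap_apply R L C]
      exact congrArg (ResidueField.map (algebraMap L C)) hr
    rw [Module.length_eq_of_surjective (R := ResidueField C) hs]
    exact Module.length_eq_one _ _
  let N := C ⧸ (Ideal.span {ϖ} : Ideal R).map (algebraMap R C)
  have hN : Module.length R N = Module.length (Localization.AtPrime P)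
      (Localization.AtPrime P ⊗[A] (A ⧸ Ideal.span {π})) := by
    rw [IsLocalRing.length_restrictScalars R C N, hone, mul_one, ← hlenC,
      ← Module.length_eq_of_surjective (R := C) (S := L) (M := N) hψs]
    refine LinearEquiv.length_eq (Submodule.quotEquivOfEq (((Ideal.span {ϖ} : Ideal R).map
      (algebraMap R C)).restrictScalars L) _ ?_)
    rw [Ideal.smul_top_eq_map, Ideal.map_span, Ideal.map_span, Set.image_singleton, Set.image_singleton]
    congr 2
    rw [IsScalarTower.algebraMap_apply R L C]
    simp [πL, π, ← IsScalarTower.algebraMap_apply]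
  have hnt : Module.length R N ≠ ⊤ := hN ▸ length_ne_top π P hmin
  haveI : IsNoetherian R N := (isFiniteLength_iff_isNoetherian_isArtinian.1 (Module.length_ne_top_iff.1 hnt)).1
  -- finiteness
  haveI : qS.LiesOver (maximalIdeal R) := ⟨by
    rw [← hqR, Ideal.under, Ideal.under]
    conv_lhs => rw [hqS]
    rw [Ideal.comap_comap]
    rfl⟩
  haveI : Algebra.QuasiFiniteAt R qS := by
    haveI : Algebra.WeaklyQuasiFiniteAt R qS := by
      rw [Algebra.weaklyQuasiFiniteAt_iff, ← Ideal.over_def qS (maximalIdeal R), hm]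
      haveI : Module.Finite R N := inferInstance
      exact (inferInstance : Algebra.QuasiFinite R N)
    exact .of_weaklyQuasiFiniteAt _
  haveI : Algebra.FiniteType R (A ⧸ I) :=
    Algebra.FiniteType.of_surjective (Ideal.Quotient.mkₐ R I) Ideal.Quotient.mk_surjective
  haveI : Module.Finite R C := (Groth.Agent.S5035.result R).1 inferInstance (A ⧸ I) qS inferInstance inferInstance
  haveI : Module.IsTorsionFree R C := Module.isTorsionFree_iff_smul_eq_zero.2 fun r c h => by
    by_cases hr : r = 0
    · exact Or.inl hr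
    obtain ⟨n, u, rfl⟩ := IsDiscreteValuationRing.eq_unit_mul_pow_irreducible hr hϖ
    refine Or.inr ?_
    rw [mul_smul] at h
    have h' : ϖ ^ n • c = 0 := by
      have := congrArg (fun z => (↑u⁻¹ : R) • z) h
      simpa [smul_smul, ← mul_assoc] using this
    exact (hCπ.pow n).right_eq_zero_of_smul h'
  haveI : Module.Free R C := inferInstance
  refine ⟨C, inferInstance, inferInstance, (IsScalarTower.toAlgHom R L C).comp (IsScalarTower.toAlgHom R A L),
    inferInstance, inferInstance, ?_⟩
  rw [← hN]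
  let e : (C ⧸ (Ideal.span {ϖ} • ⊤ : Submodule R C)) ≃ₗ[R] N :=
    Submodule.quotEquivOfEq _ (((Ideal.span {ϖ} : Ideal R).map (algebraMap R C)).restrictScalars R)
      (Ideal.smul_top_eq_map _)
  rw [← e.length_eq, ← (TensorProduct.quotTensorEquivQuotSMul C (Ideal.span {ϖ})).length_eq,
    ← (TensorProduct.congr (LinearEquiv.refl R (R ⧸ Ideal.span {ϖ})) (Module.Free.chooseBasis R C).equivFun.symm).length_eq,
    (TensorProduct.piScalarRight R R (R ⧸ Ideal.span {ϖ}) _).length_eq, Module.length_pi_of_fintype]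
  have h1 : Module.length R (R ⧸ Ideal.span {ϖ}) = 1 := by
    rw [← hm, Module.length_eq_one_iff, isSimpleModule_iff_isCoatom]
    exact (maximalIdeal.isMaximal R).out
  simp [h1, Module.finrank_eq_card_chooseBasisIndex]

end IndexMultLib

end
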