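import Groth.Agent.IndexMultLib.Local
import Groth.Agent.IndexMultLib.Degree
import Groth.Agent.RegConLib.Surface
import Groth.Prelude.Def_Models

/-!
# The index divides the multiplicities of the closed fibre
-/

set_option autoImplicit false
set_option linter.style.haveILetI false
set_option backward.isDefEq.respectTransparency false
set_option backward.isDefEq.respectTransparency.types false
set_option maxHeartbeats 2000000
universe u

open CategoryTheory CategoryTheory.Limits AlgebraicGeometry IsLocalRing TensorProduct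

noncomputable section

namespace IndexMultLib

theorem length_self_of_surjective {A B : Type u} [CommRing A] [CommRing B] (π : B →+* A)
    (hπ : Function.Surjective π) : Module.length A A = Module.length B (B ⧸ RingHom.ker π) := by
  letI := π.toAlgebra
  rw [← Module.length_eq_of_surjective (S := B) (R := A) (M := A) hπ]
  exact ((Ideal.quotientKerAlgEquivOfSurjective (f := Algebra.ofId B A) hπ).toLinearEquiv.length_eq).symm

theorem length_mem (R : Type u) [CommRing R] [IsDomain R] [IsDiscreteValuationRing R] [HenselianLocalRing R]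
    [IsAlgClosed (ResidueField R)] (X : Scheme.{u}) (f : X ⟶ Spec (CommRingCat.of (FractionRing R)))
    (𝒳 : Scheme.{u}) (p : 𝒳 ⟶ Spec (CommRingCat.of R)) (h𝒳 : Models.IsModel R 𝒳 p X f)
    (η : ↥(Models.specialFibre R 𝒳 p)) (hη : ∀ y : ↥(Models.specialFibre R 𝒳 p), y ⤳ η → y = η) :
    ∃ ℓ : ℕ, Module.length ((Models.specialFibre R 𝒳 p).presheaf.stalk η) ((Models.specialFibre R 𝒳 p).presheaf.stalk η) = ℓ ∧
      (ℓ : ℤ) ∈ Curv2.indexSubgroup f := by
  obtain ⟨hfl, hft, hqc, g, hg⟩ := h𝒳
  haveI := hfl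
  haveI := hft
  let v := Spec.map (CommRingCat.ofHom (residue R))
  haveI : IsClosedImmersion v := IsClosedImmersion.spec_of_surjective _ residue_surjective
  let ι : Models.specialFibre R 𝒳 p ⟶ 𝒳 := pullback.fst p v
  have sq : IsPullback ι (pullback.snd p v) p v := IsPullback.of_hasPullback p v
  haveI : IsClosedImmersion ι := MorphismProperty.of_isPullback (P := @IsClosedImmersion) sq.flip inferInstance
  have hvc : ∀ a : Spec (CommRingCat.of (ResidueField R)), v a = closedPoint R := fun a => by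
    rw [Subsingleton.elim (α := PrimeSpectrum (ResidueField R)) a (closedPoint (ResidueField R))]
    exact IsLocalRing.comap_closedPoint (residue R)
  let y := ι η
  have hy : p y = closedPoint R := by
    show p (ι η) = _
    rw [← Scheme.Hom.comp_apply, sq.w, Scheme.Hom.comp_apply]
    exact hvc _
  obtain ⟨_, ⟨U, hU, rfl⟩, hyU, -⟩ :=
    𝒳.isBasis_affineOpens.exists_subset_of_mem_open (Set.mem_univ y) isOpen_univ
  let φ : CommRingCat.of R ⟶ Γ(𝒳, U) := (Scheme.ΓSpecIso (CommRingCat.of R)).inv ≫ p.appLE ⊤ U le_top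
  letI : Algebra R Γ(𝒳, U) := φ.hom.toAlgebra
  haveI : Algebra.FiniteType R Γ(𝒳, U) := RingHom.finiteType_algebraMap.1
    ((p.finiteType_appLE (isAffineOpen_top _) hU le_top).comp
      (RingHom.FiniteType.of_surjective _
        (ConcreteCategory.bijective_of_isIso (Scheme.ΓSpecIso (CommRingCat.of R)).inv).surjective))
  haveI : Module.Flat R Γ(𝒳, U) := RingHom.flat_algebraMap_iff.1
    ((RingHom.Flat.of_bijective (ConcreteCategory.bijective_of_isIso (Scheme.ΓSpecIso (CommRingCat.of R)).inv)).comp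
      (p.flat_appLE (isAffineOpen_top _) hU le_top))
  have hfrom : hU.fromSpec ≫ p = Spec.map φ := by
    rw [← (isAffineOpen_top (Spec (CommRingCat.of R))).SpecMap_appLE_fromSpec p hU le_top, Spec.map_comp,
      IsAffineOpen.fromSpec_top, Scheme.isoSpec_Spec_inv]
  obtain ⟨ϖ, hϖeq⟩ : ∃ ϖ, (IsDiscreteValuationRing.exists_irreducible R).choose = ϖ := ⟨_, rfl⟩
  have hϖ : Irreducible ϖ := hϖeq ▸ (IsDiscreteValuationRing.exists_irreducible R).choose_spec
  let P := (hU.primeIdealOf ⟨y, hyU⟩).asIdeal
  have hpt : ∀ P' : PrimeSpectrum Γ(𝒳, U), p (hU.fromSpec P') = PrimeSpectrum.comap φ.hom P' := fun P' => by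
    rw [← Scheme.Hom.comp_apply, hfrom]
    rfl
  have hπP : algebraMap R Γ(𝒳, U) ϖ ∈ P := by
    have h1 := hpt (hU.primeIdealOf ⟨y, hyU⟩)
    rw [hU.fromSpec_primeIdealOf, hy] at h1
    show ϖ ∈ (PrimeSpectrum.comap φ.hom (hU.primeIdealOf ⟨y, hyU⟩)).asIdeal
    rw [← h1]
    exact hϖ.not_isUnit
  have hmin : ∀ p' : Ideal Γ(𝒳, U), p'.IsPrime → algebraMap R Γ(𝒳, U) ϖ ∈ p' → p' ≤ P → p' = P := by
    intro p' hp' hπ hle
    let y' := hU.fromSpec ⟨p', hp'⟩
    have hy' : p y' = closedPoint R := by
      rw [hpt]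
      refine PrimeSpectrum.ext ((maximalIdeal.isMaximal R).eq_of_le (Ideal.comap_isPrime _ _).ne_top ?_).symm
      rw [hϖ.maximalIdeal_eq, Ideal.span_singleton_le_iff_mem]
      exact hπ
    obtain ⟨z, hz⟩ : y' ∈ Set.range ι := by
      show y' ∈ Set.range (pullback.fst p v)
      rw [Scheme.Pullback.range_fst]
      exact ⟨closedPoint (ResidueField R), (hvc _).trans hy'.symm⟩
    have hsp : y' ⤳ y := by
      have h := ((PrimeSpectrum.le_iff_specializes ⟨p', hp'⟩ (hU.primeIdealOf ⟨y, hyU⟩)).1 hle).map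
        hU.fromSpec.continuous
      rwa [hU.fromSpec_primeIdealOf] at h
    have hzη : z = η := hη z (ι.isEmbedding.isInducing.specializes_iff.1 (hz ▸ hsp))
    have e : hU.fromSpec ⟨p', hp'⟩ = hU.fromSpec (hU.primeIdealOf ⟨y, hyU⟩) := by
      rw [hU.fromSpec_primeIdealOf]
      show y' = y
      rw [← hz, hzη]
    exact congrArg PrimeSpectrum.asIdeal (hU.fromSpec.isOpenEmbedding.injective e)
  obtain ⟨C, _, _, ψ, hfin, hfree, hrank⟩ := exists_slice (A := Γ(𝒳, U)) hϖ P hπP hmin
  haveI := hfin
  haveI := hfree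
  refine ⟨Module.finrank R C, ?_, ?_⟩
  · -- the length
    letI := TopCat.Presheaf.algebra_section_stalk 𝒳.presheaf (⟨y, hyU⟩ : U)
    haveI := hU.isLocalization_stalk ⟨y, hyU⟩
    let T := Localization.AtPrime P
    let S := 𝒳.presheaf.stalk y
    let e : T ≃ₐ[Γ(𝒳, U)] S := IsLocalization.algEquiv P.primeCompl T S
    rw [length_self_of_surjective ((ι.stalkMap η).hom.comp e.toRingEquiv.toRingHom)
      ((ι.stalkMap_surjective η).comp e.surjective)]
    rw [hrank, ← (Algebra.TensorProduct.quotIdealMapEquivTensorQuot T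
      (Ideal.span {algebraMap R Γ(𝒳, U) ϖ})).toLinearEquiv.length_eq]
    refine LinearEquiv.length_eq (Submodule.quotEquivOfEq _ _ ?_)
    rw [← RingHom.comap_ker, RegConLib.ker_stalk_fibre p (pullback.snd p v) ι sq η, hϖeq, Ideal.map_span,
      Set.image_singleton]
    show Ideal.comap e.toRingEquiv _ = _
    rw [← Ideal.map_symm, Ideal.map_span, Set.image_singleton]
    refine congrArg (fun t => Ideal.span {t}) ((e.toRingEquiv.symm_apply_eq).2 ?_)
    show _ = e (algebraMap Γ(𝒳, U) T (φ ϖ))
    rw [e.commutes]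
    show _ = 𝒳.presheaf.germ U y hyU (p.appLE ⊤ U le_top ((Scheme.ΓSpecIso (CommRingCat.of R)).inv ϖ))
    rw [Scheme.Hom.appLE, CommRingCat.comp_apply, TopCat.Presheaf.germ_res_apply]
    rfl
  · -- the points
    let K := FractionRing R
    let D := K ⊗[R] C
    let c : Spec (CommRingCat.of D) ⟶ 𝒳 :=
      Spec.map (CommRingCat.ofHom ((Algebra.TensorProduct.includeRight (R := R) (A := K) (B := C)).comp ψ).toRingHom) ≫
        hU.fromSpec
    have hc : c ≫ p = Spec.map (CommRingCat.ofHom (algebraMap K D)) ≫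
        Spec.map (CommRingCat.ofHom (algebraMap R K)) := by
      rw [Category.assoc, hfrom, ← Spec.map_comp, ← Spec.map_comp]
      congr 1
      ext r
      exact ((Algebra.TensorProduct.includeRight (R := R) (A := K) (B := C)).comp ψ).commutes r |>.trans
        (IsScalarTower.algebraMap_apply R K D r)
    let k := hg.lift c (Spec.map (CommRingCat.ofHom (algebraMap K D))) hc
    have hk : k ≫ f = Spec.map (CommRingCat.ofHom (algebraMap K D)) := hg.lift_snd _ _ _
    have h := finrank_mem f (D := D) k hk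
    rwa [Module.finrank_baseChange] at h

end IndexMultLib

end
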